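import Cfsg.Agent.H570.S8.SuzSoc
import Cfsg.Agent.H504.AN.CTwo

/-!
# S4908, the Suzuki group: SOC1 and SOC2 without hypotheses (helper570)
-/

set_option autoImplicit false

namespace Cfsg.Agent.H570.S8

open Cfsg

universe u v

theorem known : H671.FactRows.KnownAll.{u} := by
  intro X _ _ _
  exact S0000.result (G := X)

theorem imAll : IMAll.{u} := by
  intro S _ _ _ hna p hp hd
  exact H504.AN.exists_dvd_degree hna hp hd

namespace Suz

/-- **SOC1** -/
theorem soc1' {X : Type v} [Group X] [Finite X] (h : Spor.IsoSuz X) (D : Set ℕ) (hD : H704.S8.Deg 2 X D) :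
    H704.S8.Soc1.{u} D X :=
  soc1 known imAll h hD

/-- **SOC2** -/
theorem soc2' {X : Type v} [Group X] [Finite X] (h : Spor.IsoSuz X) (D : Set ℕ) (hD : H704.S8.Deg 2 X D) :
    H704.S8.Soc2.{u} D :=
  soc2 known imAll h hD

end Suz

end Cfsg.Agent.H570.S8
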