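import Cfsg.Agent.H570.S8.BSieve
import Cfsg.Agent.H185.S8.Solv
import Cfsg.Agent.H704.S8.Num
import Cfsg.Agent.H954.DR.RowB
import Cfsg.Agent.S3331

/-!
# S4908, the Baby Monster: SOLV (helper570)

The engine `NumMin` (helper704, helper185) at `m = 4371 = 3 * 31 * 47`, with the witness `96255 = 3 ^ 3 * 5 * 23 * 31`.
-/

set_option autoImplicit false

namespace Cfsg.Agent.H570.S8.B

open Cfsg Cfsg.Agent.H704.S8
open Cfsg.Agent.H715.Mon.Grp (SThree)

universe u v

theorem numMin {D : Set ℕ} (h1 : 4371 ∈ D) (h2 : 96255 ∈ D) (hs : ∀ d ∈ D, d ≤ 205437 → d ∈ small)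
    (h961 : ∀ d ∈ D, ¬ 961 ∣ d) (hx1 : 13571955 ∉ D) (hx2 : 4523985 ∉ D) : NumMin D := by
  refine ⟨4371, h1, by norm_num, fun d hd => ?_, ⟨fun p k hp h => ?_, fun q a hq ha hmod => ?_⟩,
    SC1.of_coprime (by norm_num) ?_⟩
  · by_cases h : d ≤ 205437
    · have h3 := hs d hd h
      simp only [small, List.mem_cons, List.not_mem_nil, or_false] at h3
      omega
    · right; omega
  · exfalso
    have h3 : 3 ∣ p ^ k := by rw [← h]; norm_num
    have h31 : 31 ∣ p ^ k := by rw [← h]; norm_num
    have e3 := (Nat.prime_dvd_prime_iff_eq (by norm_num) hp).1 (Nat.Prime.dvd_of_dvd_pow (by norm_num) h3)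
    have e31 := (Nat.prime_dvd_prime_iff_eq (by norm_num) hp).1 (Nat.Prime.dvd_of_dvd_pow (by norm_num) h31)
    omega
  · refine ⟨96255, h2, fun e he hdiv => ⟨?_, fun hqe => ?_⟩⟩
    · obtain ⟨t, ht⟩ := he
      have he0 : 0 < e := by
        rcases Nat.eq_zero_or_pos e with h0 | h0
        · rw [h0, zero_mul] at ht; omega
        · exact h0
      rw [ht, Nat.mul_div_cancel_left _ he0] at hdiv
      have h3 : t ∣ 93 := by
        have h4 : t ∣ Nat.gcd 4371 96255 := Nat.dvd_gcd hdiv (by rw [ht]; exact dvd_mul_left t e)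
        exact h4
      have h4 : t ∈ Nat.divisors 93 := Nat.mem_divisors.2 ⟨h3, by norm_num⟩
      have h5 : t = 1 ∨ t = 3 ∨ t = 31 ∨ t = 93 := by
        have e : Nat.divisors 93 = {1, 3, 31, 93} := by decide +kernel
        rw [e] at h4
        simpa using h4
      intro hmem
      rcases h5 with rfl | rfl | rfl | rfl
      · obtain rfl : e = 96255 := by omega
        exact h961 _ hmem (by norm_num)
      · obtain rfl : e = 32085 := by omega
        exact h961 _ hmem (by norm_num)
      · obtain rfl : e = 3105 := by omega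
        exact hx1 hmem
      · obtain rfl : e = 1035 := by omega
        exact hx2 hmem
    · have h3 : q ^ a ∣ 96255 ^ 2 := hqe.trans (pow_dvd_pow_of_dvd he 2)
      have h4 : q ∣ 3 * (5 * (23 * 31)) := by
        have h5 : q ∣ 96255 := hq.dvd_of_dvd_pow ((dvd_pow_self q (by omega)).trans h3)
        have h6 : q ∣ (3 * (5 * (23 * 31))) ^ 3 := h5.trans (by norm_num)
        exact hq.dvd_of_dvd_pow h6
      have h5 : q = 3 ∨ q = 5 ∨ q = 23 ∨ q = 31 := by
        rcases hq.dvd_mul.1 h4 with h | h
        · exact Or.inl ((Nat.prime_dvd_prime_iff_eq hq (by norm_num)).1 h)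
        rcases hq.dvd_mul.1 h with h | h
        · exact Or.inr (Or.inl ((Nat.prime_dvd_prime_iff_eq hq (by norm_num)).1 h))
        rcases hq.dvd_mul.1 h with h | h
        · exact Or.inr (Or.inr (Or.inl ((Nat.prime_dvd_prime_iff_eq hq (by norm_num)).1 h)))
        · exact Or.inr (Or.inr (Or.inr ((Nat.prime_dvd_prime_iff_eq hq (by norm_num)).1 h)))
      have ha6 : a ≤ 6 := by
        by_contra hlt
        have h6 : q ^ 7 ∣ 96255 ^ 2 := (pow_dvd_pow q (by omega)).trans h3
        rcases h5 with rfl | rfl | rfl | rfl <;> revert h6 <;> decide +kernel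
      have key : ∀ q ∈ [3, 5, 23, 31], ∀ a ∈ [1, 2, 3, 4, 5, 6], q ^ a ∣ 96255 ^ 2 → q ^ a % 4371 ≠ 1 := by
        decide +kernel
      refine key q (by simpa using h5) a ?_ h3 ?_
      · simp only [List.mem_cons, List.not_mem_nil, or_false]
        omega
      · have h7 : q ^ a % 4371 = 1 % 4371 := hmod
        rw [h7]
  · intro s c o t hsp hc hsc ho1 ho2 hso hog ht hmem
    have h3 : s ∣ 3 * (31 * 47) := (dvd_pow_self s (by omega)).trans hsc
    have hss : s = 3 ∨ s = 31 ∨ s = 47 := by
      rcases hsp.dvd_mul.1 h3 with h | h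
      · exact Or.inl ((Nat.prime_dvd_prime_iff_eq hsp (by norm_num)).1 h)
      rcases hsp.dvd_mul.1 h with h | h
      · exact Or.inr (Or.inl ((Nat.prime_dvd_prime_iff_eq hsp (by norm_num)).1 h))
      · exact Or.inr (Or.inr ((Nat.prime_dvd_prime_iff_eq hsp (by norm_num)).1 h))
    obtain rfl : c = 1 := by
      by_contra hc1
      have h6 : s ^ 2 ∣ 4371 := (pow_dvd_pow s (by omega)).trans hsc
      rcases hss with rfl | rfl | rfl <;> revert h6 <;> decide
    rw [pow_one] at ht
    rw [mul_one] at ho2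
    have hsm : ¬ s ∣ o * t := by
      intro h
      rcases hsp.dvd_mul.1 h with h | h
      · exact hso h
      · have h6 := h.trans ht
        rcases hss with rfl | rfl | rfl <;> revert h6 <;> decide
    have hdv : o * t ∣ gl s 1 * (4371 / s) := mul_dvd_mul hog ht
    have hle : o * t ≤ 205437 := by
      have h6 : t ≤ 4371 / s := Nat.le_of_dvd (by rcases hss with rfl | rfl | rfl <;> norm_num) ht
      have h7 : o * t ≤ s ^ 2 * (4371 / s) := Nat.mul_le_mul ho2.le h6
      refine h7.trans ?_
      rcases hss with rfl | rfl | rfl <;> norm_num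
    have ht0 : 0 < t := Nat.pos_of_dvd_of_pos ht (by rcases hss with rfl | rfl | rfl <;> norm_num)
    have h1' : o * t ≠ 1 := by
      intro h
      have := Nat.eq_one_of_mul_eq_one_right h
      omega
    have hm := hs _ hmem hle
    generalize o * t = w at hm hdv hsm h1'
    have key : ∀ s ∈ [3, 31, 47], ∀ w ∈ small, w ≠ 1 → w ∣ gl s 1 * (4371 / s) → s ∣ w := by
      decide +kernel
    exact hsm (key s (by simpa using hss) w hm h1' hdv)

theorem three : SThree.{0} := fun _ _ _ X hX hC => S3331.result X hX hC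

theorem numMin_B {X : Type v} [Group X] (h : Spor.IsoB X) : NumMin (charDegrees X) :=
  numMin (H954.DR.six_mem h _ (by simp [H954.DR.six])) (H954.DR.six_mem h _ (by simp [H954.DR.six]))
    (fun _ hd hlt => mem_small three h hd hlt)
    (fun d hd h961 => by
      have h1 := (h961.trans (adm_of three h hd).1)
      revert h1
      unfold Ore.Abs.NB
      norm_num)
    (not_a three h) (not_b three h)

/-- **SOLV for the Baby Monster** -/
theorem solv {X : Type v} [Group X] (h : Spor.IsoB X) (D : Set ℕ) (hD : Deg 1 X D) : Solv.{u} D := by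
  rcases hD with rfl | ⟨h1, -⟩
  · exact H185.S8.solv_of_numMin (numMin_B h)
  · omega

end Cfsg.Agent.H570.S8.B
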