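import Cfsg.Agent.H570.TC.Eleven
import Cfsg.Agent.H424.DegTools

/-!
# S4908, the Baby Monster: the small degrees (helper570)

* `mem_small` : the degrees `≤ 205437` are among `1, 4371, 43757, 46530, 91884, 96255, 136136, 182172`;
* `not_a`, `not_b` : `13571955`, `4523985` are not degrees.

`SThree.{0}` is the theorem of Feit and Thompson, `fun _ _ _ X hX hC => S3331.result X hX hC`.
-/

set_option autoImplicit false
set_option maxRecDepth 100000

namespace Cfsg.Agent.H570.S8.B

open Cfsg Subgroup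
open Cfsg.Agent.BabyM
open Cfsg.Agent.H570.Ore.Abs (Dt NB)
open Cfsg.Agent.H653.Sieve Cfsg.Agent.H651.Two
open Cfsg.Agent.H715.Mon.Grp (SThree)

universe u

/-- the columns of 47, 31, 23, 19, 17 -/
def cds : List CD := [⟨47, 1, 23, 2, [(0, 0), (1, 2), (46, -2), (23, -1), (24, 1)], 2, true⟩,
  ⟨31, 1, 15, 2, [(0, 0), (1, 2), (30, -2), (15, -1), (16, 1)], 2, true⟩,
  ⟨23, 2, 11, 2, [(0, 0), (1, 2), (22, -2), (11, -1), (12, 1)], 0, false⟩,
  ⟨19, 2, 18, 1, [(0, 0), (1, 1), (18, -1)], 0, false⟩,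
  ⟨17, 4, 16, 1, [(0, 0), (1, 1), (16, -1), (2, 2), (15, -2)], 0, false⟩]

theorem ok : (cds.all (CD.ok NB)) = true := by decide +kernel

theorem has {G : Type u} [Group G] [Finite G] {Z : G} (D : Dt G Z) : ∀ c ∈ cds, c.Has G := by
  intro c hc
  unfold cds at hc
  simp only [List.mem_cons, List.not_mem_nil, or_false] at hc
  rcases hc with rfl | rfl | rfl | rfl | rfl
  · obtain ⟨x, hx, h⟩ := D.x47
    exact ⟨by norm_num, x, hx, h.trans (by norm_num)⟩
  · obtain ⟨x, hx, h⟩ := D.x31
    exact ⟨by norm_num, x, hx, h.trans (by norm_num)⟩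
  · obtain ⟨x, hx, -, h⟩ := D.x23
    exact ⟨by norm_num, x, hx, h.trans (by norm_num)⟩
  · obtain ⟨x, hx, h⟩ := D.x19
    exact ⟨by norm_num, x, hx, h.trans (by norm_num)⟩
  · obtain ⟨x, hx, h⟩ := D.x17
    exact ⟨by norm_num, x, hx, h.trans (by norm_num)⟩

/-- the admissible degrees -/
def adm (d : ℕ) : Bool :=
  (cds.all fun c => c.wl.any fun rw => Nat.beq (d % c.r) rw.1) && TC.NumB.r11 d

/-- **The degrees of the Baby Monster are admissible** -/
theorem adm_model (h3 : SThree.{0}) {d : ℕ} (hd : d ∈ charDegrees Inst.M.G) : d ∣ NB ∧ adm d = true := by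
  have := Ore.RowB.simple
  have D := Ore.RowB.dt h3
  obtain ⟨χ, rfl⟩ := hd
  refine ⟨by rw [← D.card]; exact H511.Ore.charDegree_dvd χ, ?_⟩
  unfold adm
  rw [Bool.and_eq_true, List.all_eq_true]
  exact ⟨fun c hc => H511.Ore.res_of_has D.nonab D.card (has D c hc) (List.all_eq_true.1 ok c hc) χ,
    TC.Eleven.r11 χ⟩

theorem adm_of (h3 : SThree.{0}) {X : Type u} [Group X] (h : Spor.IsoB X) {d : ℕ} (hd : d ∈ charDegrees X) :
    d ∣ NB ∧ adm d = true := by
  obtain ⟨e⟩ := KFacts.Baby.RowB.exists_iso h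
  rw [← H424.DegTools.charDegrees_congr e] at hd
  exact adm_model h3 hd

/-- the factorisation of the order -/
def fac : List (ℕ × ℕ) := [(47, 1), (31, 1), (23, 1), (19, 1), (17, 1), (13, 1), (11, 1), (7, 2), (5, 6), (3, 13), (2, 41)]

/-- the small degrees -/
def small : List ℕ := [1, 4371, 43757, 46530, 91884, 96255, 136136, 182172]

theorem chk : allDiv (205438 * 205438) (fun d => bif adm d then small.any (Nat.beq d) else true) fac 1 = true := by
  decide +kernel

theorem fac_eq : facProd fac = NB := by decide +kernel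

theorem fac_prime : ∀ pa ∈ fac, pa.1.Prime := by
  intro pa hpa
  unfold fac at hpa
  simp only [List.mem_cons, List.not_mem_nil, or_false] at hpa
  rcases hpa with rfl | rfl | rfl | rfl | rfl | rfl | rfl | rfl | rfl | rfl | rfl <;> norm_num

/-- **The small degrees** -/
theorem mem_small (h3 : SThree.{0}) {X : Type u} [Group X] (h : Spor.IsoB X) {d : ℕ} (hd : d ∈ charDegrees X)
    (hlt : d ≤ 205437) : d ∈ small := by
  obtain ⟨h1, h2⟩ := adm_of h3 h hd
  rw [← fac_eq] at h1
  have h4 := allDiv_spec fac_prime chk d h1 (by rw [one_mul]; exact Nat.mul_lt_mul'' (by omega) (by omega))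
  rw [one_mul, h2, cond_true] at h4
  obtain ⟨x, hx, h5⟩ := List.any_eq_true.1 h4
  rw [Nat.eq_of_beq_eq_true h5]
  exact hx

theorem not_a (h3 : SThree.{0}) {X : Type u} [Group X] (h : Spor.IsoB X) : 13571955 ∉ charDegrees X := by
  intro hd
  exact absurd (adm_of h3 h hd).2 (by decide +kernel)

theorem not_b (h3 : SThree.{0}) {X : Type u} [Group X] (h : Spor.IsoB X) : 4523985 ∉ charDegrees X := by
  intro hd
  exact absurd (adm_of h3 h hd).2 (by decide +kernel)

end Cfsg.Agent.H570.S8.B
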