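import Cfsg.Agent.H704.S8.Defs
import Cfsg.Agent.H504.AN.MinDeg
import Cfsg.Agent.H761.LieExt
import Cfsg.Agent.H489.OutSpor
import Cfsg.Agent.H679.LieAlt
import Cfsg.Agent.H671.FactRows
import Cfsg.Agent.NotCT.Orders

/-!
# S4908, the rows SOC1 and SOC2: general tools (helper570)

* `deg_aut` : the degrees of `Aut X`, `X` simple with `|Out X| ≤ 2`;
* `Num D N m` : every degree in `D` divides `N`, is `1` or at least `m`, and is not a prime power;
* `soc2_of`, `cases_of` (SOC1).
-/

set_option autoImplicit false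
set_option linter.unusedSectionVars false

namespace Cfsg.Agent.H570.S8

open Cfsg Cfsg.Agent.Characters.Core Subgroup
open Cfsg.Agent.H504.AN (MFac exists_mfac)
open Cfsg.Agent.H691.AN (AlmostSimple)
open Cfsg.Agent.H704.S8 (Deg Soc1 Soc2)
open Cfsg.Agent.H672 (Over over_iff charDegree_le_of_over coe_charDegree charDegree_pos charDegree_of_eq)

universe u v

/-! ### the degrees of `Aut X` -/

/-- a character all of whose constituents on `X` are trivial is constant on `X` -/
theorem const_of_over {G : Type u} [Group G] {X : Type v} [Group X] [Finite X] (f : X →* G) {χ : G → ℂ}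
    (hχ : IsIrrCharacter G χ) (h : ∀ θ : X → ℂ, IsIrrCharacter X θ → θ ≠ 1 → ¬ Over f χ θ) (x : X) :
    χ (f x) = χ 1 := by
  classical
  have := Fintype.ofFinite X
  have hc : IsCharacter X (χ ∘ f) := isCharacter_comp f (isIrr_isCharacter hχ)
  set a : ℂ := classInner (χ ∘ f) (1 : X → ℂ) with ha
  have h0 : (χ ∘ f) - a • (1 : X → ℂ) = 0 := by
    have hcl : IsClassFunction X ((χ ∘ f) - a • (1 : X → ℂ)) := by
      intro x y
      have h1 := isCharacter_isClassFunction hc x y
      simp only [Pi.sub_apply, Pi.smul_apply, Pi.one_apply]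
      rw [h1]
    refine classFunction_eq_zero hcl fun θ hθ => ?_
    rw [classInner_sub_left, classInner_smul_left]
    by_cases h1 : θ = 1
    · subst h1
      rw [classInner_irr_self isIrr_one, mul_one, ← ha, sub_self]
    · have h2 : classInner (χ ∘ f) θ = 0 := by
        by_contra h3
        exact h θ hθ h1 ((over_iff f χ θ).2 h3)
      rw [h2, classInner_irr_ne isIrr_one hθ (fun h3 => h1 h3.symm), mul_zero, sub_zero]
  have h1 : ∀ y : X, χ (f y) = a := by
    intro y
    have h2 := congrFun h0 y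
    simp only [Pi.sub_apply, Pi.smul_apply, Pi.one_apply, Pi.zero_apply, Function.comp_apply, smul_eq_mul,
      mul_one] at h2
    exact sub_eq_zero.1 h2
  rw [h1 x, ← h1 1, map_one]

/-- a character which is constant on a subgroup `Z` has degree at most the root of the index of `Z` -/
theorem sq_le_index {G : Type u} [Group G] [Finite G] {χ : G → ℂ} (hχ : IsIrrCharacter G χ) {d : ℕ} (h1 : χ 1 = d)
    (Z : Subgroup G) (hZ : ∀ z ∈ Z, χ z = χ 1) : d ^ 2 ≤ Z.index := by
  classical
  have := Fintype.ofFinite G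
  have hval : ∀ z ∈ Z, Complex.normSq (χ z) = (d : ℝ) ^ 2 := by
    intro z hz
    rw [hZ z hz, h1, Complex.normSq_natCast]
    ring
  have h3 := classInner_irr_self hχ
  rw [classInner_self_eq_ofReal] at h3
  have h4 : (Nat.card G : ℝ)⁻¹ * ∑ g : G, Complex.normSq (χ g) = 1 := by exact_mod_cast h3
  have hG : (0 : ℝ) < Nat.card G := by exact_mod_cast Nat.card_pos
  have h5 : ∑ g : G, Complex.normSq (χ g) = Nat.card G := by
    field_simp at h4
    exact h4
  have h6 : ∑ g ∈ Finset.univ.filter (· ∈ Z), Complex.normSq (χ g) ≤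
      ∑ g : G, Complex.normSq (χ g) :=
    Finset.sum_le_sum_of_subset_of_nonneg (Finset.filter_subset _ _)
      fun g _ _ => Complex.normSq_nonneg _
  have h7 : ∑ g ∈ Finset.univ.filter (· ∈ Z), Complex.normSq (χ g) =
      Nat.card Z * (d : ℝ) ^ 2 := by
    rw [Finset.sum_congr rfl (fun g hg => hval g (Finset.mem_filter.1 hg).2), Finset.sum_const,
      nsmul_eq_mul]
    congr 2
    rw [← Fintype.card_subtype, ← Nat.card_eq_fintype_card]
  rw [h7, h5] at h6
  have h8 : Nat.card Z * d ^ 2 ≤ Nat.card G := by exact_mod_cast h6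
  rw [← Z.card_mul_index] at h8
  exact Nat.le_of_mul_le_mul_left h8 Nat.card_pos

/-- **the degrees of `Aut X`** -/
theorem deg_aut {X : Type v} [Group X] [Finite X] {m : ℕ} (hm : 3 ≤ m)
    (hmin : ∀ θ : X → ℂ, IsIrrCharacter X θ → θ ≠ 1 → m ≤ charDegree θ)
    (hcen : Subgroup.center X = ⊥)
    (ho : (MulAut.conj : X →* MulAut X).range.index ∣ 2) {d : ℕ} (hd : d ∈ charDegrees (MulAut X)) (h1 : d ≠ 1) :
    m ≤ d ∧ ∃ c ∈ charDegrees X, c ≠ 1 ∧ (d = c ∨ d = 2 * c) := by
  classical
  have hfin : Finite (MulAut X) := Finite.of_injective _ (DFunLike.coe_injective (F := MulAut X))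
  obtain ⟨χ, hχ, h2⟩ := H424.DegTools.mem_charDegrees.1 hd
  have hmd : m ≤ d := by
    by_cases h : ∃ θ : X → ℂ, IsIrrCharacter X θ ∧ θ ≠ 1 ∧ Over (MulAut.conj : X →* MulAut X) χ θ
    · obtain ⟨θ, h3, h4, h5⟩ := h
      have h6 := charDegree_le_of_over hχ h3 h5
      have h7 : charDegree χ = d := charDegree_of_eq h2
      rw [h7] at h6
      exact (hmin θ h3 h4).trans h6
    · exfalso
      push Not at h
      have h3 := const_of_over (MulAut.conj : X →* MulAut X) hχ h
      have h4 := sq_le_index hχ h2 (MulAut.conj : X →* MulAut X).range (by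
        rintro _ ⟨x, rfl⟩
        exact h3 x)
      have h5 := Nat.le_of_dvd (by norm_num) ho
      have h6 : 0 < d := by
        rcases Nat.eq_zero_or_pos d with h0 | h0
        · exact absurd (by rw [h2, h0]; simp) (isIrr_apply_one_ne_zero hχ)
        · exact h0
      have h7 : 2 ≤ d := by omega
      have h8 : 2 ^ 2 ≤ d ^ 2 := Nat.pow_le_pow_left h7 2
      omega
  refine ⟨hmd, ?_⟩
  obtain ⟨c, hc, h3, h4⟩ := H424.DegTools.clifford_down (MulAut.conj : X →* MulAut X).range hd
  have hinj : Function.Injective (MulAut.conj : X →* MulAut X) := by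
    rw [← MonoidHom.ker_eq_bot_iff, eq_bot_iff]
    intro x hx
    rw [← hcen, Subgroup.mem_center_iff]
    intro g
    have h5 := DFunLike.congr_fun (MonoidHom.mem_ker.1 hx) g
    have h6 : x * g * x⁻¹ = g := h5
    calc g * x = x * g * x⁻¹ * x := by rw [h6]
      _ = x * g := by group
  have e : X ≃* (MulAut.conj : X →* MulAut X).range := MonoidHom.ofInjective hinj
  rw [← H424.DegTools.charDegrees_congr e] at hc
  obtain ⟨t, rfl⟩ := h3
  have hc0 : 0 < c := H424.DegTools.pos_of_mem hc
  rw [Nat.mul_div_cancel_left _ hc0] at h4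
  rcases (Nat.dvd_prime Nat.prime_two).1 (h4.trans ho) with rfl | rfl
  · refine ⟨c, hc, ?_, Or.inl (mul_one c)⟩
    rintro rfl
    exact h1 rfl
  · refine ⟨c, hc, ?_, Or.inr (mul_comm c 2)⟩
    rintro rfl
    omega

/-! ### numerical facts -/

/-- the facts on the degree set -/
structure Num (D : Set ℕ) (N m : ℕ) : Prop where
  pos : 0 < N
  dvd : ∀ d ∈ D, d ∣ N
  min : ∀ d ∈ D, d ≠ 1 → m ≤ d
  pp : ∀ r k : ℕ, r.Prime → 0 < k → r ^ k ∉ D

variable {D : Set ℕ} {N m : ℕ}

/-- Lie type socles do not occur -/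
theorem lie_false (H : Num D N m) {G : Type u} [Group G] (h : charDegrees G ⊆ D) {W : Subgroup G} {k : ℕ}
    {S : Type u} [Group S] [Finite S] [IsSimpleGroup S] (F : MFac W k S) {r : ℕ} (hr : r.Prime)
    (hl : IsLieTypeChar r S) : False := by
  have : Fact r.Prime := ⟨hr⟩
  obtain ⟨θ, h1, h2⟩ := H761.LieExt.lie_ext F.nonab hl
  have h3 := H671.FactRows.prime_dvd_of_lie hr hl
  have h4 : 0 < (Nat.card S).factorization r := Nat.Prime.factorization_pos_of_dvd hr Nat.card_pos.ne' h3
  have h6 : charDegree (θ : S → ℂ) ≠ 1 := by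
    rw [h1]
    exact (Nat.one_lt_pow h4.ne' hr.one_lt).ne'
  obtain ⟨k1, -⟩ := F.ext θ h6 h2
  rw [h1, ← pow_mul] at k1
  exact H.pp r _ hr (Nat.mul_pos h4 F.pos) (h k1)

/-- every sporadic group has order divisible by a prime at least 7 -/
theorem exists_prime_spor {K : Type u} [Group K] (h : IsSporadicGroup K) : 7 ∣ Nat.card K ∨ 11 ∣ Nat.card K ∨
    17 ∣ Nat.card K := by
  rcases h with h | h | h | h | h | h | h | h | h | h | h | h | h | h | h | h | h | h | h | h | h | h | h | h | h | h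
  · right; left; rw [NotCT.Orders.m11 h]; norm_num
  · right; left; rw [NotCT.Orders.m12 h]; norm_num
  · left; rw [NotCT.Orders.m22 h]; norm_num
  · left; rw [NotCT.Orders.m23 h]; norm_num
  · left; rw [NotCT.Orders.m24 h]; norm_num
  · left; rw [NotCT.Orders.j1 h]; norm_num
  · left; rw [NotCT.Orders.j2 h]; norm_num
  · right; right; rw [NotCT.Orders.j3 h]; norm_num
  · left; rw [NotCT.Orders.j4 h]; norm_num
  · left; rw [NotCT.Orders.co1 h]; norm_num
  · left; rw [NotCT.Orders.co2 h]; norm_num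
  · left; rw [NotCT.Orders.co3 h]; norm_num
  · left; rw [NotCT.Orders.mcl h]; norm_num
  · left; rw [NotCT.Orders.hs h]; norm_num
  · left; rw [NotCT.Orders.suz h]; norm_num
  · left; rw [NotCT.Orders.he h]; norm_num
  · left; rw [NotCT.Orders.ru h]; norm_num
  · left; rw [NotCT.Orders.on h]; norm_num
  · left; rw [NotCT.Orders.ly h]; norm_num
  · left; rw [NotCT.Orders.fi22 h]; norm_num
  · left; rw [NotCT.Orders.fi23 h]; norm_num
  · left; rw [NotCT.Orders.fi24 h]; norm_num
  · left; rw [NotCT.Orders.hn h]; norm_num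
  · left; rw [NotCT.Orders.th h]; norm_num
  · left; rw [NotCT.Orders.b h]; norm_num
  · left; rw [NotCT.Orders.m h]; norm_num

/-- Ito–Michler for the simple groups (S4760) -/
def IMAll : Prop :=
  ∀ (S : Type u) [Group S] [Finite S] [IsSimpleGroup S], ¬ IsMulCommutative S → ∀ p : ℕ, p.Prime → p ∣ Nat.card S →
    ∃ d ∈ charDegrees S, p ∣ d

theorem prime_dvd_alt {l p : ℕ} (hp : p.Prime) (h3 : 3 ≤ p) (hl : 5 ≤ l) (hpl : p ≤ l) :
    p ∣ Nat.card (alternatingGroup (Fin l)) := by
  have h2 : Nontrivial (Fin l) := Fin.nontrivial_iff_two_le.2 (by omega)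
  have h4 : 2 * Nat.card (alternatingGroup (Fin l)) = Nat.card (Equiv.Perm (Fin l)) := by
    rw [Nat.card_eq_fintype_card, Nat.card_eq_fintype_card]
    exact two_mul_card_alternatingGroup
  have h5 : p ∣ 2 * Nat.card (alternatingGroup (Fin l)) := by
    rw [h4, Nat.card_eq_fintype_card, Fintype.card_perm, Fintype.card_fin]
    exact hp.dvd_factorial.2 hpl
  rcases hp.dvd_mul.1 h5 with h6 | h6
  · exact absurd (Nat.le_of_dvd (by norm_num) h6) (by omega)
  · exact h6

/-- **SOC2** -/
theorem soc2_of (hkn : H671.FactRows.KnownAll.{u}) (him : IMAll.{u}) (H : Num D N m) (h7 : ¬ 7 ^ 2 ∣ N)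
    (h11 : ¬ 11 ^ 2 ∣ N) (h13 : ¬ 13 ^ 2 ∣ N) (h17 : ¬ 17 ^ 2 ∣ N) : Soc2.{u} D := by
  intro Y _ _ h W hW _ hmin hna
  have hna' : ¬ ∀ x ∈ W, ∀ y ∈ W, Commute x y := by
    intro hc
    exact hna ⟨⟨fun a b => Subtype.ext (hc a a.2 b b.2)⟩⟩
  obtain ⟨k, S, iS, F⟩ := exists_mfac W hmin hna'
  have hfin := F.finite
  have hsimp := F.simple
  rcases Nat.lt_or_ge k 2 with hk | hk
  · have hk1 : k = 1 := by have := F.pos; omega
    subst hk1
    exact F.simple_of_one
  · exfalso
    have key : ∀ p : ℕ, p.Prime → p ∣ Nat.card S → p ^ 2 ∣ N := by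
      intro p hp hpd
      obtain ⟨d', h1, h2⟩ := F.prime_pow (fun q hq hqd => him S F.nonab q hq hqd) hp hpd
      exact (pow_dvd_pow p hk).trans (h2.trans (H.dvd d' (h h1)))
    rcases H671.FactRows.split hkn S F.nonab with ⟨l, hl, ⟨e⟩⟩ | ⟨r, hr, hl⟩ | ht | hs
    · by_cases h5 : l = 5
      · subst h5
        have : Fact (Nat.Prime 5) := ⟨by norm_num⟩
        obtain ⟨f⟩ := Cfsg.Agent.S0253.psl_zmod5
        exact lie_false H h F (r := 5) (by norm_num) (Or.inl ⟨ZMod 5, inferInstance, inferInstance, inferInstance, 2,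
          le_rfl, fun _ => by rw [ZMod.card]; norm_num, ⟨e.trans f.symm⟩⟩)
      by_cases h6 : l = 6
      · subst h6
        exact lie_false H h F (r := 3) (by norm_num) (H679.isLie_six ⟨e⟩)
      · apply h7
        refine key 7 (by norm_num) ?_
        rw [Nat.card_congr e.toEquiv]
        exact prime_dvd_alt (by norm_num) (by norm_num) hl (by omega)
    · exact lie_false H h F hr hl
    · exact h13 (key 13 (by norm_num) (by rw [NotCT.Orders.tits ht]; norm_num))
    · rcases exists_prime_spor hs with h1 | h1 | h1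
      · exact h7 (key 7 (by norm_num) h1)
      · exact h11 (key 11 (by norm_num) h1)
      · exact h17 (key 17 (by norm_num) h1)

/-! ### SOC1 -/

theorem alt_deg {l : ℕ} (hl : 5 ≤ l) : l - 1 ∈ charDegrees (alternatingGroup (Fin l)) := by
  have h1 : MulAction.IsMultiplyPretransitive (alternatingGroup (Fin l)) (Fin l) (Nat.card (Fin l) - 2) :=
    alternatingGroup.isMultiplyPretransitive (Fin l)
  have h2 : MulAction.IsMultiplyPretransitive (alternatingGroup (Fin l)) (Fin l) 2 := by
    rw [Nat.card_eq_fintype_card, Fintype.card_fin] at h1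
    refine MulAction.isMultiplyPretransitive_of_le (n := l - 2) (by omega) ?_
    rw [Nat.card_eq_fintype_card, Fintype.card_fin]
    omega
  exact H424.DegTools.of_two_transitive (Fin l) h2 (n := l - 1)
    (by rw [Nat.card_eq_fintype_card, Fintype.card_fin]; omega) (by omega)

/-- one factor when the product is simple -/
theorem one_of_simple {W : Type u} [Group W] [IsSimpleGroup W] {k : ℕ} (hk : 0 < k) {S : Type u} [Group S]
    [Nontrivial S] (e : W ≃* (Fin k → S)) : k = 1 := by
  by_contra hne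
  have hk2 : 2 ≤ k := by omega
  obtain ⟨s, hs⟩ := exists_ne (1 : S)
  let i0 : Fin k := ⟨0, by omega⟩
  let i1 : Fin k := ⟨1, by omega⟩
  have h01 : i0 ≠ i1 := by
    intro h
    exact absurd (Fin.ext_iff.1 h) (by norm_num)
  let f : W →* S := (Pi.evalMonoidHom (fun _ : Fin k => S) i0).comp e.toMonoidHom
  rcases IsSimpleGroup.eq_bot_or_eq_top_of_normal f.ker inferInstance with h | h
  · have h1 : e.symm (Pi.mulSingle i1 s) ∈ f.ker := by
      rw [MonoidHom.mem_ker]
      change e (e.symm (Pi.mulSingle i1 s)) i0 = 1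
      rw [MulEquiv.apply_symm_apply, Pi.mulSingle_eq_of_ne h01]
    rw [h, Subgroup.mem_bot] at h1
    have h2 : (Pi.mulSingle i1 s : Fin k → S) = 1 := by
      rw [← e.apply_symm_apply (Pi.mulSingle i1 s), h1, map_one]
    exact hs (by simpa using congrFun h2 i1)
  · have h1 : e.symm (Pi.mulSingle i0 s) ∈ f.ker := by rw [h]; exact Subgroup.mem_top _
    rw [MonoidHom.mem_ker] at h1
    change e (e.symm (Pi.mulSingle i0 s)) i0 = 1 at h1
    rw [MulEquiv.apply_symm_apply, Pi.mulSingle_eq_same] at h1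
    exact hs h1

/-- an almost simple group gives one factor -/
theorem exists_one {A : Type u} [Group A] [Finite A] {S : Subgroup A} [S.Normal] (hA : AlmostSimple A S) :
    ∃ (T : Type u) (_ : Group T), MFac S 1 T ∧ Nonempty (S ≃* T) := by
  have hs := hA.simple
  have hmin : ∀ M : Subgroup A, M.Normal → M ≤ S → M = ⊥ ∨ M = S := by
    intro M hM hMS
    have h1 : (M.subgroupOf S).Normal := inferInstance
    rcases IsSimpleGroup.eq_bot_or_eq_top_of_normal (M.subgroupOf S) h1 with h | h
    · left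
      rw [Subgroup.subgroupOf_eq_bot] at h
      exact disjoint_self.1 (h.mono_right hMS)
    · right
      exact le_antisymm hMS (Subgroup.subgroupOf_eq_top.1 h)
  have hna : ¬ ∀ x ∈ S, ∀ y ∈ S, Commute x y := by
    intro hc
    exact hA.nonab ⟨⟨fun a b => Subtype.ext (hc a a.2 b b.2)⟩⟩
  obtain ⟨k, T, iT, F⟩ := exists_mfac S hmin hna
  have hsimp := F.simple
  obtain ⟨e⟩ := F.equiv
  have hk : k = 1 := one_of_simple F.pos e
  subst hk
  exact ⟨T, iT, F, ⟨e.trans (MulEquiv.funUnique (Fin 1) T)⟩⟩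

/-- what remains for a sporadic socle `S` (or the Tits group) -/
structure Rest (D : Set ℕ) (N : ℕ) (S : Type u) [Group S] : Prop where
  or : Lie.IsoTits S ∨ IsSporadicGroup S
  deg : ∀ d ∈ charDegrees S, d ≠ 1 → d ∈ D ∨ 2 * d ∈ D
  prime : ∀ p : ℕ, p.Prime → p ∣ Nat.card S → p ∣ N

theorem two_of {c k : ℕ} (hk : k ≤ 2) (h0 : k ≠ 0) (h : c ∣ k) : c = 1 ∨ c = 2 := by
  have h1 := Nat.le_of_dvd (by omega) h
  have h2 : c ≠ 0 := by rintro rfl; exact h0 (zero_dvd_iff.1 h)
  omega

/-- **SOC1**, all socles except the sporadic ones and the Tits group -/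
theorem soc1_of (hkn : H671.FactRows.KnownAll.{u}) (him : IMAll.{u}) (H : Num D N m) {q : ℕ} (hq : q.Prime)
    (h3 : 3 ≤ q) (hqN : ¬ q ∣ N) (hqm : 2 * q ≤ m) {A : Type u} [Group A] [Finite A] {S : Subgroup A} (hA : AlmostSimple A S)
    (h : charDegrees A ⊆ D) : ∃ (T : Type u) (_ : Group T) (_ : Finite T), Nonempty (S ≃* T) ∧ Rest D N T := by
  have hSn := hA.normal
  obtain ⟨T, iT, F, ⟨eS⟩⟩ := exists_one hA
  have hfin := F.finite
  have hsimp := F.simple
  have key : ∀ p : ℕ, p.Prime → p ∣ Nat.card T → p ∣ N := by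
    intro p hp hpd
    obtain ⟨d', h1, h2⟩ := F.prime_pow (fun q hq hqd => him T F.nonab q hq hqd) hp hpd
    rw [pow_one] at h2
    exact h2.trans (H.dvd d' (h h1))
  have two : Nat.card (Out T) ≤ 2 → ∀ d ∈ charDegrees T, d ≠ 1 → d ∈ D ∨ 2 * d ∈ D := by
    intro h1 d hd hd1
    obtain ⟨c, hc, h2⟩ := F.mul hd hd1
    have : Finite (MulAut T) := Finite.of_injective _ (DFunLike.coe_injective (F := MulAut T))
    rcases two_of h1 Nat.card_pos.ne' hc with rfl | rfl
    · left
      have h3 := h h2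
      rwa [one_mul, one_mul] at h3
    · right
      have h3 := h h2
      rwa [one_mul] at h3
  have tr : (Lie.IsoTits T ∨ IsSporadicGroup T) → Nat.card (Out T) ≤ 2 →
      ∃ (T : Type u) (_ : Group T) (_ : Finite T), Nonempty (S ≃* T) ∧ Rest D N T :=
    fun h1 h2 => ⟨T, iT, hfin, ⟨eS⟩, h1, two h2, key⟩
  rcases H671.FactRows.split hkn T F.nonab with ⟨l, hl, ⟨e⟩⟩ | ⟨r, hr, hl⟩ | ht | hs
  · exfalso
    by_cases h5 : l = 5
    · subst h5
      have : Fact (Nat.Prime 5) := ⟨by norm_num⟩
      obtain ⟨f⟩ := Cfsg.Agent.S0253.psl_zmod5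
      exact lie_false H h F (r := 5) (by norm_num) (Or.inl ⟨ZMod 5, inferInstance, inferInstance, inferInstance, 2,
        le_rfl, fun _ => by rw [ZMod.card]; norm_num, ⟨e.trans f.symm⟩⟩)
    by_cases h6 : l = 6
    · subst h6
      exact lie_false H h F (r := 3) (by norm_num) (H679.isLie_six ⟨e⟩)
    have hout : Nat.card (Out T) ≤ 2 := by
      rw [H55.OutGen.card_out_congr e, H489.card_out_alt hl h6]
    have hlq : l < q := by
      by_contra hcon
      push Not at hcon
      apply hqN
      refine key q hq ?_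
      rw [Nat.card_congr e.toEquiv]
      exact prime_dvd_alt hq h3 hl hcon
    have h1 : l - 1 ∈ charDegrees T := by
      rw [H424.DegTools.charDegrees_congr e]
      exact alt_deg hl
    rcases two hout _ h1 (by omega) with h2 | h2
    · have := H.min _ h2 (by omega)
      omega
    · have := H.min _ h2 (by omega)
      omega
  · exact (lie_false H h F hr hl).elim
  · exact tr (Or.inl ht) (H489.card_out_tits ht)
  · exact tr (Or.inr hs) (H489.card_out_sporadic hs)

end Cfsg.Agent.H570.S8
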