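import Cfsg.Agent.H570.S8.SuzX
import Cfsg.Agent.H765.DS.HSMcL
import Cfsg.Agent.H672.SporIM.RankRows
import Cfsg.Agent.H740.Eight.Tits
import Cfsg.Agent.H603.FD.Spor
import Cfsg.Agent.H481.EP.LiftEq
import Cfsg.Agent.H481.EP.FiSpan

/-!
# S4908, `Suz`: the rows SOC1 and SOC2 (helper570)

The classification (`KnownAll`) and Ito–Michler (`IMAll`, S4760) are hypotheses here.
-/

set_option autoImplicit false

namespace Cfsg.Agent.H570.S8.Suz

open Cfsg Cfsg.Agent.Characters.Core Subgroup
open Cfsg.Agent.H704.S8 (Deg Soc1 Soc2)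
open Cfsg.Agent.H691.AN (AlmostSimple)

universe u v

/-- `Fi22` has an irreducible character of degree 78 -/
theorem mem_78 {S : Type u} [Group S] [Finite S] (h : Spor.IsoFi22 S) : 78 ∈ charDegrees S := by
  have hc := NotCT.Orders.fi22 h
  obtain ⟨e⟩ := h
  have hc' : Nat.card Spor.Fi22 = 64561751654400 := by rw [← Nat.card_congr e.toEquiv, hc]
  have : Finite Spor.Fi22 := Nat.finite_of_card_ne_zero (by rw [hc']; norm_num)
  have h17 : Fact (Nat.Prime 17) := ⟨by norm_num⟩
  obtain ⟨χ, h1, h2⟩ := H481.EP.LiftEq.exists_irr_eq_of_matrix (p := 17) (by rw [hc']; norm_num) (by norm_num)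
    H481.EP.FiSpan.ρM H481.EP.FiSpan.span_eq_top
  rw [H424.DegTools.charDegrees_congr e]
  exact ⟨⟨χ, h1⟩, Cfsg.Agent.Blocks.Basic.charDegree_of_eq h2⟩

section

variable {X : Type v} [Group X] [Finite X] (h : Spor.IsoSuz X) {D : Set ℕ} (hD : Deg 2 X D) {S : Type u} [Group S]
  (R : Rest D 896690995200 S)

include h hD R

/-- a small degree -/
theorem kill {a : ℕ} (ha : a ∈ charDegrees S) (h1 : a ≠ 1) (h2 : a < 55) (h0 : 0 < a) : False := by
  rcases R.deg a ha h1 with h3 | h3
  · have := (num h hD).min a h3 h1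
    omega
  · have := (num h hD).min (2 * a) h3 (by omega)
    omega

theorem kill_78 (ha : 78 ∈ charDegrees S) : False := by
  rcases R.deg 78 ha (by norm_num) with h3 | h3
  · have := (num h hD).min 78 h3 (by norm_num)
    omega
  · obtain ⟨c, hc1, hc, -, h2⟩ := mem_cases h hD h3 (by norm_num)
    rcases h2 with h2 | h2
    · rw [← h2] at hc
      exact absurd hc (by decide)
    · have h4 : c = 78 := by omega
      rw [h4] at hc
      exact absurd hc (by decide)

theorem kill_prime {p : ℕ} (hp : p.Prime) {n : ℕ} (hn : Nat.card S = n) (h1 : n % p = 0)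
    (h2 : 896690995200 % p ≠ 0) : False :=
  h2 (Nat.mod_eq_zero_of_dvd (R.prime p hp (hn ▸ Nat.dvd_of_mod_eq_zero h1)))

end

/-- the sporadic socles -/
theorem spor {X : Type v} [Group X] [Finite X] (h : Spor.IsoSuz X) {D : Set ℕ} (hD : Deg 2 X D) {S : Type u}
    [Group S] [Finite S] (R : Rest D 896690995200 S) : Nonempty (S ≃* X) := by
  rcases R.or with ht | hs
  · exact (kill h hD R (H740.Eight.Tits.mem_27 ht) (by norm_num) (by norm_num) (by norm_num)).elim
  rcases hs with k | k | k | k | k | k | k | k | k | k | k | k | k | k | k | k | k | k | k | k | k | k | k | k | k | k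
  · exact (kill h hD R (H603.FD.Spor.m11 (UGT.End.MEleven.isM11 k)).1 (by norm_num) (by norm_num) (by norm_num)).elim
  · exact (kill h hD R (H603.FD.Spor.m12 (H603.FD.Spor.isM12 k)).1 (by norm_num) (by norm_num) (by norm_num)).elim
  · exact (kill h hD R (H603.FD.Spor.m22 (H417.RecogMathieu.isM22 k)).1 (by norm_num) (by norm_num) (by norm_num)).elim
  · exact (kill_prime h hD R (p := 23) (by norm_num) (NotCT.Orders.m23 k) (by norm_num) (by norm_num)).elim
  · exact (kill_prime h hD R (p := 23) (by norm_num) (NotCT.Orders.m24 k) (by norm_num) (by norm_num)).elim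
  · exact (kill_prime h hD R (p := 19) (by norm_num) (NotCT.Orders.j1 k) (by norm_num) (by norm_num)).elim
  · exact (kill h hD R (H672.SporIM.j2 k).2 (by norm_num) (by norm_num) (by norm_num)).elim
  · exact (kill_prime h hD R (p := 19) (by norm_num) (NotCT.Orders.j3 k) (by norm_num) (by norm_num)).elim
  · exact (kill_prime h hD R (p := 43) (by norm_num) (NotCT.Orders.j4 k) (by norm_num) (by norm_num)).elim
  · exact (kill_prime h hD R (p := 23) (by norm_num) (NotCT.Orders.co1 k) (by norm_num) (by norm_num)).elim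
  · exact (kill_prime h hD R (p := 23) (by norm_num) (NotCT.Orders.co2 k) (by norm_num) (by norm_num)).elim
  · exact (kill_prime h hD R (p := 23) (by norm_num) (NotCT.Orders.co3 k) (by norm_num) (by norm_num)).elim
  · exact (kill h hD R (H424.DegTools.mem_charDegrees.2 (H765.DS.HSMcL.mcl_22 k)) (by norm_num) (by norm_num) (by norm_num)).elim
  · exact (kill h hD R (H424.DegTools.mem_charDegrees.2 (H765.DS.HSMcL.hs_22 k)) (by norm_num) (by norm_num) (by norm_num)).elim
  · obtain ⟨e⟩ := h
    obtain ⟨f⟩ := k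
    exact ⟨f.trans e.symm⟩
  · exact (kill_prime h hD R (p := 17) (by norm_num) (NotCT.Orders.he k) (by norm_num) (by norm_num)).elim
  · exact (kill_prime h hD R (p := 29) (by norm_num) (NotCT.Orders.ru k) (by norm_num) (by norm_num)).elim
  · exact (kill_prime h hD R (p := 31) (by norm_num) (NotCT.Orders.on k) (by norm_num) (by norm_num)).elim
  · exact (kill_prime h hD R (p := 31) (by norm_num) (NotCT.Orders.ly k) (by norm_num) (by norm_num)).elim
  · exact (kill_78 h hD R (mem_78 k)).elim
  · exact (kill_prime h hD R (p := 23) (by norm_num) (NotCT.Orders.fi23 k) (by norm_num) (by norm_num)).elim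
  · exact (kill_prime h hD R (p := 23) (by norm_num) (NotCT.Orders.fi24 k) (by norm_num) (by norm_num)).elim
  · exact (kill_prime h hD R (p := 19) (by norm_num) (NotCT.Orders.hn k) (by norm_num) (by norm_num)).elim
  · exact (kill_prime h hD R (p := 19) (by norm_num) (NotCT.Orders.th k) (by norm_num) (by norm_num)).elim
  · exact (kill_prime h hD R (p := 47) (by norm_num) (NotCT.Orders.b k) (by norm_num) (by norm_num)).elim
  · exact (kill_prime h hD R (p := 71) (by norm_num) (NotCT.Orders.m k) (by norm_num) (by norm_num)).elim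

/-- **SOC1** -/
theorem soc1 (hkn : H671.FactRows.KnownAll.{u}) (him : IMAll.{u}) {X : Type v} [Group X] [Finite X]
    (h : Spor.IsoSuz X) {D : Set ℕ} (hD : Deg 2 X D) : Soc1.{u} D X := by
  intro A _ _ S hA hAD
  obtain ⟨T, iT, fT, ⟨e⟩, R⟩ := soc1_of hkn him (num h hD) (q := 17) (by norm_num) (by norm_num) (by norm_num)
    (by norm_num) hA hAD
  obtain ⟨f⟩ := spor h hD R
  exact ⟨e.trans f⟩

/-- **SOC2** -/
theorem soc2 (hkn : H671.FactRows.KnownAll.{u}) (him : IMAll.{u}) {X : Type v} [Group X] [Finite X]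
    (h : Spor.IsoSuz X) {D : Set ℕ} (hD : Deg 2 X D) : Soc2.{u} D :=
  soc2_of hkn him (num h hD) (by norm_num) (by norm_num) (by norm_num) (by norm_num)

end Cfsg.Agent.H570.S8.Suz
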