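import Cfsg.Agent.H570.S8.Gen
import Cfsg.Agent.H133.Ore.DegSuz

/-!
# S4908, `Suz`: the degrees of `Suz` and `Aut Suz` (helper570)

* `adm` : a degree `≠ 1` of `Suz` is at least 110, divides the order and has the residues `0, ±1` mod 11 and
  `0, ±1, ±6` mod 13;
* `num` : `Num D (2 |Suz|) 110`.
-/

set_option autoImplicit false

namespace Cfsg.Agent.H570.S8.Suz

open Cfsg Cfsg.Agent.Characters.Core Subgroup
open Cfsg.Agent.H704.S8 (Deg Soc1 Soc2)

universe u v

variable {X : Type v} [Group X] [Finite X]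

/-- the test for the degrees of `Suz` -/
def adm (d : ℕ) : Bool :=
  Nat.beq d 1 || (Nat.ble 110 d && (Nat.beq (448345497600 % d) 0 &&
    ((Nat.beq (d % 11) 0 || Nat.beq (d % 11) 1 || Nat.beq (d % 11) 10) &&
      (Nat.beq (d % 13) 0 || Nat.beq (d % 13) 1 || Nat.beq (d % 13) 6 || Nat.beq (d % 13) 7 || Nat.beq (d % 13) 12))))

theorem adm_of_suz {d : ℕ} (hd : d ∈ charDegrees Spor.Suz) : adm d = true := by
  have := H133.Ore.Suz.simple
  have := H133.Ore.Suz.fin
  obtain ⟨χ, hχ⟩ := hd
  by_cases h1 : (χ : Spor.Suz → ℂ) = 1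
  · have h2 : charDegree (χ : Spor.Suz → ℂ) = 1 := H672.charDegree_of_eq (by rw [h1]; simp)
    rw [h2] at hχ
    subst hχ
    decide
  · have h2 := H133.Ore.Suz.minDeg χ h1
    have h3 := H511.Ore.charDegree_dvd χ
    rw [H133.Ore.Suz.card] at h3
    have h4 := H511.Ore.res_of_has H133.Ore.Suz.not_comm H133.Ore.Suz.card
      (H133.Ore.Suz.has H133.Ore.Suz.c11 (by simp [H133.Ore.Suz.cd]))
      (by exact (List.all_eq_true.1 H133.Ore.Suz.ok _ (by simp [H133.Ore.Suz.cd]))) χ
    have h5 := H511.Ore.res_of_has H133.Ore.Suz.not_comm H133.Ore.Suz.card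
      (H133.Ore.Suz.has H133.Ore.Suz.c13 (by simp [H133.Ore.Suz.cd]))
      (by exact (List.all_eq_true.1 H133.Ore.Suz.ok _ (by simp [H133.Ore.Suz.cd]))) χ
    rw [hχ] at h2 h3 h4 h5
    simp only [H133.Ore.Suz.c11, List.any_cons, List.any_nil, Bool.or_false] at h4
    simp only [H133.Ore.Suz.c13, List.any_cons, List.any_nil, Bool.or_false] at h5
    unfold adm
    have h6 : Nat.ble 110 d = true := by rw [Nat.ble_eq]; exact h2
    have h7 : Nat.beq (448345497600 % d) 0 = true := by rw [Nat.beq_eq]; exact Nat.mod_eq_zero_of_dvd h3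
    rw [h6, h7]
    simp only [Bool.true_and, Bool.or_eq_true, Bool.and_eq_true]
    refine Or.inr ⟨?_, ?_⟩
    · simp only [Bool.or_eq_true] at h4
      tauto
    · simp only [Bool.or_eq_true] at h5
      tauto

theorem adm_of (h : Spor.IsoSuz X) {d : ℕ} (hd : d ∈ charDegrees X) : adm d = true := by
  obtain ⟨e⟩ := h
  rw [H424.DegTools.charDegrees_congr e] at hd
  exact adm_of_suz hd

theorem adm_cases {d : ℕ} (h : adm d = true) (h1 : d ≠ 1) : 110 ≤ d ∧ d ∣ 448345497600 := by
  unfold adm at h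
  rw [Bool.or_eq_true] at h
  rcases h with h | h
  · rw [Nat.beq_eq] at h
    exact absurd h h1
  · rw [Bool.and_eq_true, Bool.and_eq_true, Nat.ble_eq, Nat.beq_eq] at h
    exact ⟨h.1, Nat.dvd_of_mod_eq_zero h.2.1⟩

/-- no prime powers -/
theorem pp_chk : ([2, 3, 5, 7, 11, 13].all fun r => (List.range 39).all fun k =>
    Nat.beq k 0 || !(adm (r ^ k))) = true := by decide +kernel

theorem adm_pp {r k : ℕ} (hr : r.Prime) (hk : 0 < k) : adm (r ^ k) = false := by
  by_contra h
  rw [Bool.not_eq_false] at h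
  have h1 : r ^ k ≠ 1 := (Nat.one_lt_pow hk.ne' hr.one_lt).ne'
  obtain ⟨-, h2⟩ := adm_cases h h1
  have h3 : r ∣ 2 ^ 13 * (3 ^ 7 * (5 ^ 2 * (7 * (11 * 13)))) := (dvd_pow_self r hk.ne').trans (h2.trans (by norm_num))
  have h4 : r ∈ [2, 3, 5, 7, 11, 13] := by
    have hq : ∀ {q j : ℕ}, q.Prime → r ∣ q ^ j → r = q := fun hq h =>
      (Nat.prime_dvd_prime_iff_eq hr hq).1 (hr.dvd_of_dvd_pow h)
    rcases hr.dvd_mul.1 h3 with h | h
    · rw [hq (by norm_num) h]; decide
    rcases hr.dvd_mul.1 h with h | h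
    · rw [hq (by norm_num) h]; decide
    rcases hr.dvd_mul.1 h with h | h
    · rw [hq (by norm_num) h]; decide
    rcases hr.dvd_mul.1 h with h | h
    · rw [hq (q := 7) (j := 1) (by norm_num) (by simpa using h)]; decide
    rcases hr.dvd_mul.1 h with h | h
    · rw [hq (q := 11) (j := 1) (by norm_num) (by simpa using h)]; decide
    · rw [hq (q := 13) (j := 1) (by norm_num) (by simpa using h)]; decide
  have h5 : k < 39 := by
    by_contra hcon
    push Not at hcon
    have h6 : 2 ^ 39 ≤ r ^ k := (Nat.pow_le_pow_right (by norm_num) hcon).trans (Nat.pow_le_pow_left hr.two_le k)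
    have h7 := Nat.le_of_dvd (by norm_num) h2
    omega
  have h6 := List.all_eq_true.1 (List.all_eq_true.1 pp_chk r h4) k (List.mem_range.2 h5)
  rw [h] at h6
  simp only [Bool.not_true, Bool.or_false, Nat.beq_eq] at h6
  omega

theorem index_dvd_two (h : IsSporadicGroup X) : (MulAut.conj : X →* MulAut X).range.index ∣ 2 := by
  have h1 : (MulAut.conj : X →* MulAut X).range.index ≤ 2 := H489.card_out_sporadic h
  have : Finite (MulAut X) := Finite.of_injective _ (DFunLike.coe_injective (F := MulAut X))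
  have h2 : (MulAut.conj : X →* MulAut X).range.index ≠ 0 := Subgroup.index_ne_zero_of_finite
  have h3 : (MulAut.conj : X →* MulAut X).range.index = 1 ∨ (MulAut.conj : X →* MulAut X).range.index = 2 := by omega
  rcases h3 with h3 | h3 <;> rw [h3]
  norm_num

theorem mem_cases (h : Spor.IsoSuz X) {D : Set ℕ} (hD : Deg 2 X D) {d : ℕ} (hd : d ∈ D) (h1 : d ≠ 1) :
    ∃ c : ℕ, c ≠ 1 ∧ adm c = true ∧ 110 ≤ d ∧ (d = c ∨ d = 2 * c) := by
  rcases hD with rfl | ⟨-, rfl⟩
  · exact ⟨d, h1, adm_of h hd, (adm_cases (adm_of h hd) h1).1, Or.inl rfl⟩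
  · have hs : IsSimpleGroup X := by
      obtain ⟨e⟩ := h
      have := H133.Ore.Suz.simple
      exact e.isSimpleGroup
    have hcen : Subgroup.center X = ⊥ := by
      rcases IsSimpleGroup.eq_bot_or_eq_top_of_normal (Subgroup.center X) inferInstance with h0 | h0
      · exact h0
      · exfalso
        obtain ⟨e⟩ := h
        apply H133.Ore.Suz.not_comm
        refine ⟨⟨fun a b => e.symm.injective ?_⟩⟩
        rw [map_mul, map_mul]
        have h2 : e.symm b ∈ Subgroup.center X := by rw [h0]; exact Subgroup.mem_top _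
        exact Subgroup.mem_center_iff.1 h2 _
    have hmin : ∀ θ : X → ℂ, IsIrrCharacter X θ → θ ≠ 1 → 110 ≤ charDegree θ := by
      intro θ hθ hne
      by_cases h2 : charDegree θ = 1
      · exfalso
        apply hne
        have hna : ¬ (Nat.card X).Prime := by
          rw [NotCT.Orders.suz h]
          norm_num
        refine SmallSimple.SelfCentSum.eq_one_of_apply_one hna hθ ?_
        rw [← H672.coe_charDegree hθ, h2, Nat.cast_one]
      · exact (adm_cases (adm_of h ⟨⟨θ, hθ⟩, rfl⟩) h2).1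
    have ho : (MulAut.conj : X →* MulAut X).range.index ∣ 2 := index_dvd_two (by unfold IsSporadicGroup; tauto)
    obtain ⟨h3, c, hc, hc1, h4⟩ := deg_aut (m := 110) (by norm_num) hmin hcen ho hd h1
    exact ⟨c, hc1, adm_of h hc, h3, h4⟩

theorem num (h : Spor.IsoSuz X) {D : Set ℕ} (hD : Deg 2 X D) : Num D 896690995200 110 := by
  refine ⟨by norm_num, ?_, ?_, ?_⟩
  · intro d hd
    by_cases h1 : d = 1
    · rw [h1]; exact one_dvd _
    obtain ⟨c, hc1, hc, -, h2⟩ := mem_cases h hD hd h1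
    have h3 := (adm_cases hc hc1).2
    rcases h2 with rfl | rfl
    · exact h3.trans (by norm_num)
    · exact (Nat.mul_dvd_mul_left 2 h3).trans (by norm_num)
  · intro d hd h1
    exact (mem_cases h hD hd h1).choose_spec.2.2.1
  · intro r k hr hk hd
    have h1 : r ^ k ≠ 1 := (Nat.one_lt_pow hk.ne' hr.one_lt).ne'
    obtain ⟨c, hc1, hc, -, h2⟩ := mem_cases h hD hd h1
    rcases h2 with h2 | h2
    · rw [← h2, adm_pp hr hk] at hc
      exact absurd hc (by decide)
    · have h3 : c ∣ r ^ k := ⟨2, by rw [h2, mul_comm]⟩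
      obtain ⟨j, -, rfl⟩ := (Nat.dvd_prime_pow hr).1 h3
      have hj : 0 < j := by
        rcases Nat.eq_zero_or_pos j with h0 | h0
        · subst h0; exact absurd (pow_zero r) hc1
        · exact h0
      rw [adm_pp hr hj] at hc
      exact absurd hc (by decide)

end Cfsg.Agent.H570.S8.Suz
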